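import Groth.Agent.Fano.K505.KonDef
import Groth.Agent.Fano.K837.StPull

/-!
# Families of maps with a datum: pulling back data, morphisms from data

For a linear chart `ℓ` (`K505.KonDef.LinChart`) and families of maps with a datum (`K505.KonDef.Datum`):
* `pullTop_lc`, `app_lc`, `givenBy_lc_comp`: the sections `lc f x φ` and base change;
* `genLocus_of_pb`, `iSup_genLocus_of_pb`: the locus where pulled back sections generate;
* `exists_pull`: a datum pulls back along a morphism of families; `IsPull.comp`, `IsPull.id`, `IsPull.unique`;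
* `existsUnique_hom`: a morphism of bases compatible with the morphisms to the chart and the matrices lifts uniquely to a
  morphism of families compatible with the data.
-/

set_option autoImplicit false

universe u

open CategoryTheory CategoryTheory.Limits AlgebraicGeometry

namespace K11.UnivKit

open K390.PnSec Groth.Agent.Fdesc.LocGen Groth.Agent.Dix.ProjProper K188.LineDef K745.ConDef K505.KonDef
open W4swstmapratcurves K837.StPull

section Lc

variable {T T' C C' : Scheme.{u}} {f : C ⟶ T} {f' : C' ⟶ T'} {n e : ℕ} {L : C.Modules}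

theorem pullTop_lc {t : C' ⟶ C} {b : T' ⟶ T} (hw : t ≫ f = f' ≫ b) (x : Fin (e + 1) → Γ(L, ⊤))
    (φ : Fin (n + 1) → Fin (e + 1) → Γ(T, ⊤)) (l : Fin (n + 1)) :
    pullTop t (lc f x φ l) = lc f' (fun i => pullTop t (x i)) (fun l i => b.appTop (φ l i)) l := by
  unfold lc
  rw [pullTop_sum_smul]
  refine Finset.sum_congr rfl fun i _ => ?_
  have h1 : t.appTop (f.appTop (φ l i)) = f'.appTop (b.appTop (φ l i)) := by
    have h2 := congr(($(congrArg Scheme.Hom.appTop hw)) (φ l i))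
    rw [Scheme.Hom.comp_appTop, Scheme.Hom.comp_appTop] at h2
    exact h2
  rw [h1]

theorem app_lc {L' : C.Modules} (τ : L ⟶ L') (x : Fin (e + 1) → Γ(L, ⊤)) (φ : Fin (n + 1) → Fin (e + 1) → Γ(T, ⊤))
    (l : Fin (n + 1)) : τ.app ⊤ (lc f x φ l) = lc f (fun i => τ.app ⊤ (x i)) φ l := by
  unfold lc
  rw [app_sum_smul]

/-- The pulled back sections `lc f x φ`. -/
theorem pb_lc {t : C' ⟶ C} {b : T' ⟶ T} (hw : t ≫ f = f' ≫ b) {x : Fin (e + 1) → Γ(L, ⊤)} {L' : C'.Modules}
    {x' : Fin (e + 1) → Γ(L', ⊤)} (hx : Pb t x x') (φ : Fin (n + 1) → Fin (e + 1) → Γ(T, ⊤)) :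
    Pb t (lc f x φ) (lc f' x' (fun l i => b.appTop (φ l i))) := by
  obtain ⟨τ, hτ⟩ := hx
  refine ⟨τ, fun l => ?_⟩
  rw [pullTop_lc hw, app_lc]
  simp only [hτ]

/-- Pulling back a morphism to projective space given by sections. -/
theorem givenBy_of_pb {R : Type u} [CommRing R] {t : C' ⟶ C} {s : Fin (n + 1) → Γ(L, ⊤)}
    {μ : C ⟶ CohB1.ProjSpace n R} (h : GivenBy μ L s) {L' : C'.Modules} {s' : Fin (n + 1) → Γ(L', ⊤)}
    (hs : Pb t s s') : GivenBy (t ≫ μ) L' s' := by
  obtain ⟨τ, hτ⟩ := hs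
  have h1 := (h.comp t).of_iso τ
  rw [funext hτ] at h1
  exact h1

/-- Pulling back a morphism to projective space given by `φ`. -/
theorem givenBy_lc_comp {R : Type u} [CommRing R] {t : C' ⟶ C} {b : T' ⟶ T} (hw : t ≫ f = f' ≫ b)
    {φ : Fin (n + 1) → Fin (e + 1) → Γ(T, ⊤)} {μ : C ⟶ CohB1.ProjSpace n R} {x : Fin (e + 1) → Γ(L, ⊤)}
    (h : GivenBy μ L (lc f x φ)) {L' : C'.Modules} {x' : Fin (e + 1) → Γ(L', ⊤)} (hx : Pb t x x') :
    GivenBy (t ≫ μ) L' (lc f' x' (fun l i => b.appTop (φ l i))) :=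
  givenBy_of_pb h (pb_lc hw hx φ)

end Lc

section Gen

variable {X Y : Scheme.{u}} {m : ℕ} {L : X.Modules} {M : Y.Modules}

/-- The locus where a pulled back section generates. -/
theorem genLocus_of_pb (hL : PicF.IsInvertible L) {r : Y ⟶ X} {x : Fin m → Γ(L, ⊤)} {y : Fin m → Γ(M, ⊤)}
    (h : Pb r x y) (i : Fin m) :
    CohB1.genLocus M (homOf (y i)) = r ⁻¹ᵁ (CohB1.genLocus L (homOf (x i))) := by
  obtain ⟨τ, hτ⟩ := h
  rw [← hτ, genLocus_app, genLocus_pullTop r hL]

theorem iSup_genLocus_of_pb (hL : PicF.IsInvertible L) {r : Y ⟶ X} {x : Fin m → Γ(L, ⊤)} {y : Fin m → Γ(M, ⊤)}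
    (h : Pb r x y) :
    ⨆ i, CohB1.genLocus M (homOf (y i)) = r ⁻¹ᵁ (⨆ i, CohB1.genLocus L (homOf (x i))) := by
  rw [Scheme.Hom.preimage_iSup]
  exact iSup_congr fun i => genLocus_of_pb hL h i

end Gen

section Data

variable {k : Type u} [Field k] {r m n d e : ℕ} {G : LefPen.Form n k d} {c : CrvChart k (r + m)}
  {ℓ : LinChart c G e}

theorem addM_sect_castAdd {S : Scheme.{u}} (A : CurvSt.PtFamObj S r) (y : Fin m → (A.base.left ⟶ A.C))
    (hy : ∀ i, y i ≫ A.f = 𝟙 A.base.left) (i : Fin r) : (addM A y hy).sect (Fin.castAdd m i) = A.sect i :=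
  Fin.addCases_left (motive := fun _ => A.base.left ⟶ A.C) i

theorem addM_sect_natAdd {S : Scheme.{u}} (A : CurvSt.PtFamObj S r) (y : Fin m → (A.base.left ⟶ A.C))
    (hy : ∀ i, y i ≫ A.f = 𝟙 A.base.left) (i : Fin m) : (addM A y hy).sect (Fin.natAdd r i) = y i :=
  Fin.addCases_right (motive := fun _ => A.base.left ⟶ A.C) i

/-- The morphism of the family of a datum to the universal curve. -/
noncomputable def tp {A : Fam G r} (D : Datum ℓ A) : A.C ⟶ c.C := D.h.top

/-- The morphism of the base of a datum to the base of the chart. -/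
noncomputable def bs {A : Fam G r} (D : Datum ℓ A) : A.base ⟶ c.U := D.h.base

/-- The square of a datum is cartesian. -/
theorem cart {A : Fam G r} (D : Datum ℓ A) : IsPullback (tp D) A.f c.f (bs D).left := D.h.cart

theorem sect_tp {A : Fam G r} (D : Datum ℓ A) (i : Fin r) :
    A.sect i ≫ tp D = (bs D).left ≫ c.B.sect (Fin.castAdd m i) := by
  have h := D.h.w_sect (Fin.castAdd m i)
  rw [addM_sect_castAdd] at h
  exact h

theorem y_tp {A : Fam G r} (D : Datum ℓ A) (i : Fin m) :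
    D.y i ≫ tp D = (bs D).left ≫ c.B.sect (Fin.natAdd r i) := by
  have h := D.h.w_sect (Fin.natAdd r i)
  rw [addM_sect_natAdd] at h
  exact h

theorem givenBy {A : Fam G r} (D : Datum ℓ A) :
    GivenBy (A.map ≫ (LefPen.hypIdeal G).subschemeι) ((Scheme.Modules.pullback (tp D)).obj ℓ.L)
      (lc A.f (fun j => pullTop (tp D) (ℓ.ε j)) D.φ) := D.givenBy

/-- A datum from the morphisms to the chart and the matrix. -/
noncomputable def mkDatum (A : Fam G r) (y : Fin m → (A.base.left ⟶ A.C)) (hy : ∀ i, y i ≫ A.f = 𝟙 A.base.left)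
    (t : A.C ⟶ c.C) (b : A.base ⟶ c.U) (hP : IsPullback t A.f c.f b.left)
    (h1 : ∀ i, A.sect i ≫ t = b.left ≫ c.B.sect (Fin.castAdd m i))
    (h2 : ∀ i, y i ≫ t = b.left ≫ c.B.sect (Fin.natAdd r i)) (φ : Fin (n + 1) → Fin (e + 1) → Γ(A.base.left, ⊤))
    (hg : GivenBy (A.map ≫ (LefPen.hypIdeal G).subschemeι) ((Scheme.Modules.pullback t).obj ℓ.L)
      (lc A.f (fun j => pullTop t (ℓ.ε j)) φ)) : Datum ℓ A where
  y := y
  hy := hy
  h :=
    { base := b
      top := t
      cart := hP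
      w_sect := fun i => by
        refine Fin.addCases (fun i => ?_) (fun i => ?_) i
        · rw [addM_sect_castAdd]
          exact h1 i
        · rw [addM_sect_natAdd]
          exact h2 i }
  φ := φ
  givenBy := hg

/-- The sections of the map of a datum vanish nowhere simultaneously. -/
theorem iSup_genLocus {A : Fam G r} (D : Datum ℓ A) :
    ⨆ l, CohB1.genLocus _ (homOf (lc A.f (fun j => pullTop (tp D) (ℓ.ε j)) D.φ l)) = ⊤ :=
  (givenBy D).iSup_genLocus

theorem map_toSpec (A : Fam G r) : (A.map ≫ (LefPen.hypIdeal G).subschemeι) ≫ CohB1.ProjSpace.toSpec n k =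
    A.f ≫ A.base.hom := by
  rw [Category.assoc]
  exact A.map_over

/-- Two data of a family are equal if the sections, the morphisms and the matrices are. -/
theorem datum_ext {A : Fam G r} {D D' : Datum ℓ A} (hy : D.y = D'.y) (htop : tp D = tp D')
    (hbase : bs D = bs D') (hφ : D.φ = D'.φ) : D = D' := by
  obtain ⟨y, hy1, h, φ, hg⟩ := D
  obtain ⟨y', hy1', h', φ', hg'⟩ := D'
  obtain rfl : y = y' := hy
  obtain rfl : h = h' := CurvSt.PtFamObj.hom_ext hbase htop
  obtain rfl : φ = φ' := hφ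
  rfl

section IsPull

variable {A'' A' A : Fam G r} {D'' : Datum ℓ A''} {D' : Datum ℓ A'} {D : Datum ℓ A} {g : A' ⟶ A} {g' : A'' ⟶ A'}

theorem IsPull.tp_eq (H : IsPull D' D g) : tp D' = g.hom.top ≫ tp D := H.top

theorem IsPull.bs_eq (H : IsPull D' D g) : bs D' = g.hom.base ≫ bs D := H.base

theorem IsPull.mk' (h1 : ∀ i, D'.y i ≫ g.hom.top = g.hom.base.left ≫ D.y i) (h2 : tp D' = g.hom.top ≫ tp D)
    (h3 : bs D' = g.hom.base ≫ bs D) (h4 : ∀ l i, D'.φ l i = g.hom.base.left.appTop (D.φ l i)) : IsPull D' D g :=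
  ⟨h1, h2, h3, h4⟩

/-- A datum pulls back along a morphism of families. -/
theorem exists_pull (g : A' ⟶ A) (D : Datum ℓ A) : ∃ D' : Datum ℓ A', IsPull D' D g := by
  have hw : ∀ i, (g.hom.base.left ≫ D.y i) ≫ A.f = 𝟙 A'.base.left ≫ g.hom.base.left := fun i => by
    rw [Category.assoc, D.hy, Category.comp_id, Category.id_comp]
  let y' : Fin m → (A'.base.left ⟶ A'.C) := fun i => g.hom.cart.lift (g.hom.base.left ≫ D.y i) (𝟙 _) (hw i)
  have hy1 : ∀ i, y' i ≫ g.hom.top = g.hom.base.left ≫ D.y i := fun i => g.hom.cart.lift_fst _ _ _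
  have hy2 : ∀ i, y' i ≫ A'.f = 𝟙 _ := fun i => g.hom.cart.lift_snd _ _ _
  have hP : IsPullback (g.hom.top ≫ tp D) A'.f c.f (g.hom.base ≫ bs D).left := g.hom.cart.paste_horiz (cart D)
  have hx : Pb g.hom.top (fun j => pullTop (tp D) (ℓ.ε j)) (fun j => pullTop (g.hom.top ≫ tp D) (ℓ.ε j)) :=
    Pb.of_comp (Pb.refl (g.hom.top ≫ tp D) ℓ.ε)
  have h1 := givenBy_lc_comp g.hom.cart.w (givenBy D) hx
  rw [← Category.assoc, g.w_map] at h1
  refine ⟨mkDatum A' y' hy2 (g.hom.top ≫ tp D) (g.hom.base ≫ bs D) hP (fun i => ?_) (fun i => ?_) _ h1,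
    ⟨hy1, rfl, rfl, fun _ _ => rfl⟩⟩
  · have h2 := g.hom.w_sect i
    rw [← Category.assoc, h2, Category.assoc, sect_tp, Over.comp_left, Category.assoc]
  · rw [← Category.assoc, hy1, Category.assoc, y_tp, Over.comp_left, Category.assoc]

theorem IsPull.unique {D₂ : Datum ℓ A'} (H : IsPull D' D g) (H' : IsPull D₂ D g) : D' = D₂ := by
  refine datum_ext (funext fun i => ?_) (H.top.trans H'.top.symm) (H.base.trans H'.base.symm)
    (funext fun l => funext fun i => (H.φ l i).trans (H'.φ l i).symm)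
  refine g.hom.cart.hom_ext ((H.y i).trans (H'.y i).symm) ?_
  exact (D'.hy i).trans (D₂.hy i).symm

theorem IsPull.comp (H' : IsPull D'' D' g') (H : IsPull D' D g) : IsPull D'' D (g' ≫ g) := by
  refine IsPull.mk' (fun i => ?_) ?_ ?_ fun l i => ?_
  · change D''.y i ≫ g'.hom.top ≫ g.hom.top = (g'.hom.base.left ≫ g.hom.base.left) ≫ D.y i
    rw [← Category.assoc, H'.y, Category.assoc, H.y, Category.assoc]
  · change _ = (g'.hom.top ≫ g.hom.top) ≫ tp D
    rw [IsPull.tp_eq H', IsPull.tp_eq H, Category.assoc]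
  · change _ = (g'.hom.base ≫ g.hom.base) ≫ bs D
    rw [IsPull.bs_eq H', IsPull.bs_eq H, Category.assoc]
  · rw [H'.φ, H.φ]
    change _ = (g'.hom.base.left ≫ g.hom.base.left).appTop _
    rw [Scheme.Hom.comp_appTop]
    rfl

theorem IsPull.id (D : Datum ℓ A) : IsPull D D (𝟙 A) := by
  refine IsPull.mk' (fun i => ?_) (Category.id_comp _).symm (Category.id_comp _).symm fun l i => ?_
  · change D.y i ≫ 𝟙 A.C = 𝟙 A.base.left ≫ D.y i
    rw [Category.comp_id, Category.id_comp]
  · change _ = (𝟙 A.base.left : A.base.left ⟶ A.base.left).appTop _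
    rw [Scheme.Hom.id_appTop]
    rfl

/-- A morphism of bases compatible with the data lifts uniquely to a morphism of families compatible with the data. -/
theorem existsUnique_hom (D' : Datum ℓ A') (D : Datum ℓ A) (b : A'.base ⟶ A.base)
    (hb : bs D' = b ≫ bs D) (hφ : ∀ l i, D'.φ l i = b.left.appTop (D.φ l i)) :
    ∃! g : A' ⟶ A, g.hom.base = b ∧ IsPull D' D g := by
  have hbl : (bs D').left = b.left ≫ (bs D).left := by rw [hb]; rfl
  have hw : tp D' ≫ c.f = (A'.f ≫ b.left) ≫ (bs D).left := by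
    rw [(cart D').w, hbl, Category.assoc]
  let top : A'.C ⟶ A.C := (cart D).lift (tp D') (A'.f ≫ b.left) hw
  have h1 : top ≫ tp D = tp D' := (cart D).lift_fst _ _ _
  have h2 : top ≫ A.f = A'.f ≫ b.left := (cart D).lift_snd _ _ _
  have hcart : IsPullback top A'.f A.f b.left := by
    refine IsPullback.of_right (h₁₂ := tp D) (h₂₂ := (bs D).left) (v₁₃ := c.f) ?_ h2 (cart D)
    rw [h1, ← hbl]
    exact cart D'
  have hsec : ∀ (s' : A'.base.left ⟶ A'.C) (s : A.base.left ⟶ A.C) (t : c.U.left ⟶ c.C), s' ≫ A'.f = 𝟙 _ →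
      s ≫ A.f = 𝟙 _ → s' ≫ tp D' = (bs D').left ≫ t → s ≫ tp D = (bs D).left ≫ t →
      s' ≫ top = b.left ≫ s := by
    intro s' s t e1 e2 e3 e4
    refine (cart D).hom_ext ?_ ?_
    · rw [Category.assoc, h1, e3, Category.assoc, e4, hbl, Category.assoc]
    · rw [Category.assoc, h2, ← Category.assoc, e1, Category.assoc, e2, Category.id_comp, Category.comp_id]
  have hmap : top ≫ A.map = A'.map := by
    rw [← cancel_mono (LefPen.hypIdeal G).subschemeι]
    have hx : Pb top (fun j => pullTop (tp D) (ℓ.ε j)) (fun j => pullTop (tp D') (ℓ.ε j)) := by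
      refine Pb.of_comp ?_
      rw [h1]
      exact Pb.refl _ _
    have h3 := givenBy_lc_comp h2 (givenBy D) hx
    have h4 : GivenBy (A'.map ≫ (LefPen.hypIdeal G).subschemeι) ((Scheme.Modules.pullback (tp D')).obj ℓ.L)
        (lc A'.f (fun j => pullTop (tp D') (ℓ.ε j)) (fun l i => b.left.appTop (D.φ l i))) := by
      have h5 := givenBy D'
      rw [show D'.φ = fun l i => b.left.appTop (D.φ l i) from funext fun l => funext fun i => hφ l i] at h5
      exact h5
    rw [Category.assoc]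
    refine h3.unique h4 ?_
    rw [Category.assoc, map_toSpec, map_toSpec, ← Category.assoc, h2, Category.assoc, Over.w b]
  refine ⟨⟨⟨b, top, hcart, fun i => ?_⟩, hmap⟩, ⟨rfl, IsPull.mk' (fun i => ?_) h1.symm hb hφ⟩, ?_⟩
  · exact hsec _ _ _ (A'.sect_f i) (A.sect_f i) (sect_tp D' i) (sect_tp D i)
  · exact hsec _ _ _ (D'.hy i) (D.hy i) (y_tp D' i) (y_tp D i)
  · rintro g ⟨rfl, H⟩
    refine StMap.MapFamObj.hom_ext (CurvSt.PtFamObj.hom_ext rfl ?_)
    refine (cart D).hom_ext ?_ ?_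
    · exact (IsPull.tp_eq H).symm.trans h1.symm
    · exact g.hom.cart.w.trans h2.symm

end IsPull

end Data

end K11.UnivKit
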