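import Groth.Agent.Fano.K11.LinEv
import Groth.Agent.Fano.K11.UnivKit

/-!
# The equations of the sections at which a form vanishes

`f : C ⟶ U` with `U` affine, `L` an invertible module on `C` with sections `ε`, and `δ` sections of `L ^ d` which are a basis
of the sections of `L ^ d` after every base change (`UBasis`). For a form `G` of degree `d`:
* `exists_eqns`: there are polynomials `P` in the matrix `φ` with coefficients in `Γ(U)` such that after every base change
  `G` vanishes at the sections `Σ_i φ_{l,i} ε_i` iff all `P_m(φ) = 0`.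
-/

set_option autoImplicit false

universe u

open CategoryTheory CategoryTheory.Limits AlgebraicGeometry

namespace K11.LinEqn

open K390.PnSec Groth.Agent.Fdesc.LocGen K188.LineDef K745.ConDef K505.KonDef K837.StPull K11.UnivKit K11.LinEv

section Defs

variable {C U : Scheme.{u}}

/-- The sections `δ` of `M` are a basis of the sections of `M` over the base, after every base change. -/
def UBasis (f : C ⟶ U) {M : C.Modules} {N : ℕ} (δ : Fin N → Γ(M, ⊤)) : Prop :=
  ∀ {T C' : Scheme.{u}} (i : C' ⟶ C) (f' : C' ⟶ T) (g : T ⟶ U), IsPullback i f' f g →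
    ∀ s : Γ((Scheme.Modules.pullback i).obj M, ⊤), ∃! a : Fin N → Γ(T, ⊤),
      s = ∑ j, (f'.appTop (a j)) • pullTop i (δ j)

end Defs

section Affine

variable (U : Scheme.{u}) [IsAffine U] (σ : Type) {T : Scheme.{u}}

/-- The affine space over `U` with coordinates `σ`. -/
noncomputable abbrev AS : Scheme.{u} := Spec (CommRingCat.of (MvPolynomial σ Γ(U, ⊤)))

/-- The projection of the affine space. -/
noncomputable def toB : AS U σ ⟶ U :=
  Spec.map (CommRingCat.ofHom (algebraMap Γ(U, ⊤) (MvPolynomial σ Γ(U, ⊤)))) ≫ U.isoSpec.inv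

theorem isoSpec_inv_appTop : U.isoSpec.inv.appTop = (Scheme.ΓSpecIso Γ(U, ⊤)).inv := by
  have h2 : U.isoSpec.inv ≫ U.isoSpec.hom = 𝟙 _ := Iso.inv_hom_id _
  have h3 := congrArg Scheme.Hom.appTop h2
  rw [Scheme.Hom.comp_appTop, Scheme.Hom.id_appTop] at h3
  have h4 : U.isoSpec.hom.appTop = (Scheme.ΓSpecIso Γ(U, ⊤)).hom := Scheme.toSpecΓ_appTop _
  rw [h4] at h3
  rw [← cancel_epi (Scheme.ΓSpecIso Γ(U, ⊤)).hom, h3, Iso.hom_inv_id]

theorem toB_appTop (a : Γ(U, ⊤)) : (toB U σ).appTop a =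
    (Scheme.ΓSpecIso (CommRingCat.of (MvPolynomial σ Γ(U, ⊤)))).inv (MvPolynomial.C a) := by
  unfold toB
  rw [Scheme.Hom.comp_appTop, isoSpec_inv_appTop, ← Scheme.ΓSpecIso_inv_naturality]
  rfl

variable {U σ}

/-- A morphism to `U` and functions give a morphism to the affine space. -/
theorem exists_toAS (b : T ⟶ U) (φ : σ → Γ(T, ⊤)) : ∃ u : T ⟶ AS U σ, u ≫ toB U σ = b ∧
    ∀ p : MvPolynomial σ Γ(U, ⊤), u.appTop ((Scheme.ΓSpecIso (CommRingCat.of (MvPolynomial σ Γ(U, ⊤)))).inv p) =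
      MvPolynomial.eval₂ b.appTop.hom φ p := by
  let ψ : MvPolynomial σ Γ(U, ⊤) →+* Γ(T, ⊤) := MvPolynomial.eval₂Hom b.appTop.hom φ
  let u : T ⟶ AS U σ := T.toSpecΓ ≫ Spec.map (CommRingCat.ofHom ψ)
  have h1 : (Scheme.ΓSpecIso (CommRingCat.of (MvPolynomial σ Γ(U, ⊤)))).inv ≫ u.appTop = CommRingCat.ofHom ψ := by
    change _ ≫ (T.toSpecΓ ≫ Spec.map (CommRingCat.ofHom ψ)).appTop = _
    rw [Scheme.Hom.comp_appTop, ← Category.assoc, ← Scheme.ΓSpecIso_inv_naturality, Category.assoc,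
      Scheme.toSpecΓ_appTop, Iso.inv_hom_id, Category.comp_id]
  have h2 : ∀ p : MvPolynomial σ Γ(U, ⊤), u.appTop ((Scheme.ΓSpecIso
      (CommRingCat.of (MvPolynomial σ Γ(U, ⊤)))).inv p) = MvPolynomial.eval₂ b.appTop.hom φ p :=
    fun p => congr($h1 p)
  refine ⟨u, ext_of_isAffine ?_, h2⟩
  ext a
  rw [Scheme.Hom.comp_appTop]
  change u.appTop ((toB U σ).appTop a) = _
  rw [toB_appTop, h2, MvPolynomial.eval₂_C]

end Affine

section Main

variable {k : Type u} [Field k] {C U : Scheme.{u}} {n d e N : ℕ}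

theorem kmap_comp {T' T : Scheme.{u}} (u : T' ⟶ T) (q : T ⟶ Spec (CommRingCat.of k)) :
    u.appTop.hom.comp (kmap q) = kmap (u ≫ q) := by
  unfold kmap
  rw [Scheme.Hom.comp_appTop]
  rfl

/-- The equations of the sections at which a form vanishes. -/
theorem exists_eqns [IsAffine U] (f : C ⟶ U) (q : U ⟶ Spec (CommRingCat.of k)) {L : C.Modules}
    (hL : PicF.IsInvertible L) (ε : Fin (e + 1) → Γ(L, ⊤)) (δ : Fin N → Γ(CohB1.tensorPow L d, ⊤))
    (hδ : UBasis f δ) (G : LefPen.Form n k d) :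
    ∃ P : Fin N → MvPolynomial (Fin (n + 1) × Fin (e + 1)) Γ(U, ⊤),
      ∀ {T C' : Scheme.{u}} (i : C' ⟶ C) (f' : C' ⟶ T) (g : T ⟶ U), IsPullback i f' f g →
        ∀ φ : Fin (n + 1) → Fin (e + 1) → Γ(T, ⊤),
          Van f' (lc f' (fun j => pullTop i (ε j)) φ) (G.1.map (kmap (g ≫ q))) ↔
            ∀ m, MvPolynomial.eval₂ g.appTop.hom (fun p => φ p.1 p.2) (P m) = 0 := by
  let σ : Type := Fin (n + 1) × Fin (e + 1)
  let ΓS := Scheme.ΓSpecIso (CommRingCat.of (MvPolynomial σ Γ(U, ⊤)))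
  let φu : Fin (n + 1) → Fin (e + 1) → Γ(AS U σ, ⊤) := fun l i => ΓS.inv (MvPolynomial.X (l, i))
  have hV : IsPullback (pullback.fst f (toB U σ)) (pullback.snd f (toB U σ)) f (toB U σ) :=
    IsPullback.of_hasPullback _ _
  have hG : ∀ {T : Scheme.{u}} (q : T ⟶ Spec (CommRingCat.of k)), (G.1.map (kmap q)).IsHomogeneous d :=
    fun q => (G.2 : G.1.IsHomogeneous d).map _
  obtain ⟨y, hy⟩ := exists_isEv hL (pullback.snd f (toB U σ)) (pullback.fst f (toB U σ))
    (lc (pullback.snd f (toB U σ)) (fun j => pullTop (pullback.fst f (toB U σ)) (ε j)) φu) (hG (toB U σ ≫ q))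
  obtain ⟨a, ha, -⟩ := hδ _ _ _ hV y
  refine ⟨fun m => ΓS.hom (a m), fun {T C'} i f' g hP φ => ?_⟩
  obtain ⟨u, hu, hu'⟩ := exists_toAS g (fun p : σ => φ p.1 p.2)
  have hw : i ≫ f = (f' ≫ u) ≫ toB U σ := by rw [hP.w, Category.assoc, hu]
  obtain ⟨t, ht1, ht2⟩ : ∃ t : C' ⟶ pullback f (toB U σ), t ≫ pullback.fst f (toB U σ) = i ∧
      t ≫ pullback.snd f (toB U σ) = f' ≫ u := ⟨hV.lift i (f' ≫ u) hw, hV.lift_fst _ _ _, hV.lift_snd _ _ _⟩
  subst ht1
  have h1 := IsEv.pull hy t f' u ht2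
  -- the pulled back sections
  have hφ : (fun l i => u.appTop (φu l i)) = φ := by
    funext l i
    refine (hu' _).trans ?_
    rw [MvPolynomial.eval₂_X]
  have h2 : (fun j => ((Scheme.Modules.pullbackComp t (pullback.fst f (toB U σ))).hom.app L).app ⊤ (pullTop t
      (lc (pullback.snd f (toB U σ)) (fun j => pullTop (pullback.fst f (toB U σ)) (ε j)) φu j))) =
      lc f' (fun j => pullTop (t ≫ pullback.fst f (toB U σ)) (ε j)) φ := by
    funext l
    rw [pullTop_lc ht2, hφ]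
    refine (app_lc ((Scheme.Modules.pullbackComp t (pullback.fst f (toB U σ))).hom.app L) _ φ l).trans ?_
    congr 1
    funext j
    exact pullTop_comp' t _ (ε j)
  have h3 : (G.1.map (kmap (toB U σ ≫ q))).map u.appTop.hom = G.1.map (kmap (g ≫ q)) := by
    rw [MvPolynomial.map_map, kmap_comp, ← Category.assoc, hu]
  rw [h2, h3] at h1
  rw [← eq_zero_iff_van hL (hG _) h1]
  -- the coefficients of the value
  have h4 : ((Scheme.Modules.pullbackComp t (pullback.fst f (toB U σ))).hom.app (CohB1.tensorPow L d)).app ⊤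
      (pullTop t y) = ∑ m, (f'.appTop (u.appTop (a m))) • pullTop (t ≫ pullback.fst f (toB U σ)) (δ m) := by
    rw [ha, pullTop_sum_smul]
    refine (app_sum_smul ((Scheme.Modules.pullbackComp t (pullback.fst f (toB U σ))).hom.app
      (CohB1.tensorPow L d)) _ _).trans ?_
    refine Finset.sum_congr rfl fun m _ => ?_
    have h5 : t.appTop ((pullback.snd f (toB U σ)).appTop (a m)) = f'.appTop (u.appTop (a m)) := by
      have h6 := congr(($(congrArg Scheme.Hom.appTop ht2)) (a m))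
      rw [Scheme.Hom.comp_appTop, Scheme.Hom.comp_appTop] at h6
      exact h6
    rw [h5]
    exact congrArg _ (pullTop_comp' t _ (δ m))
  rw [h4]
  have h7 : ∀ m, MvPolynomial.eval₂ g.appTop.hom (fun p => φ p.1 p.2) (ΓS.hom (a m)) = u.appTop (a m) := by
    intro m
    rw [← hu']
    congr 1
    exact congr($(ΓS.hom_inv_id) (a m))
  constructor
  · intro h0 m
    rw [h7]
    obtain ⟨a₀, -, h8⟩ := hδ _ _ _ hP 0
    have h9 := (h8 (fun m => u.appTop (a m)) h0.symm).trans (h8 (fun _ => 0) (by simp)).symm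
    exact congrFun h9 m
  · intro h0
    refine Finset.sum_eq_zero fun m _ => ?_
    rw [← h7, h0, map_zero, zero_smul]

end Main

end K11.LinEqn
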