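import Groth.Agent.Fano.K11.LinEqn
import Groth.Agent.Fano.K723.LinDef

/-!
# The equations of the sections at which a form vanishes: forms over the base

`exists_equations`: node B3 of `K723.PlanL` for an affine base `T`.
-/

set_option autoImplicit false

universe u

open CategoryTheory CategoryTheory.Limits AlgebraicGeometry

namespace K11.LinEqnB

open K390.PnSec Groth.Agent.Fdesc.LocGen K188.LineDef K745.ConDef K505.KonDef K837.StPull K11.UnivKit K11.LinEv
open K11.LinEqn K723.LinDef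

section Main

variable {C T : Scheme.{u}} {n d e p : ℕ}

/-- The equations of the sections at which a form vanishes. -/
theorem exists_equations [IsAffine T] (f : C ⟶ T) {L : C.Modules} (hL : PicF.IsInvertible L)
    {ε : Fin (e + 1) → Γ(L, ⊤)} {η : Fin p → Γ(CohB1.tensorPow L d, ⊤)}
    (hη : IsBasis f (CohB1.tensorPow L d) η) (F : MvPolynomial (Fin (n + 1)) Γ(T, ⊤)) (hF : F.IsHomogeneous d) :
    ∃ P : Fin p → MvPolynomial (Fin (n + 1) × Fin (e + 1)) Γ(T, ⊤),
      ∀ {T' C' : Scheme.{u}} (i : C' ⟶ C) (f' : C' ⟶ T') (g : T' ⟶ T), IsPullback i f' f g →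
        ∀ φ : Fin (n + 1) → Fin (e + 1) → Γ(T', ⊤),
          Van f' (lc f' (fun j => pullTop i (ε j)) φ) (F.map g.appTop.hom) ↔
            ∀ l, MvPolynomial.eval₂ g.appTop.hom (fun x => φ x.1 x.2) (P l) = 0 := by
  let σ : Type := Fin (n + 1) × Fin (e + 1)
  let ΓS := Scheme.ΓSpecIso (CommRingCat.of (MvPolynomial σ Γ(T, ⊤)))
  let φu : Fin (n + 1) → Fin (e + 1) → Γ(AS T σ, ⊤) := fun l i => ΓS.inv (MvPolynomial.X (l, i))
  have hV : IsPullback (pullback.fst f (toB T σ)) (pullback.snd f (toB T σ)) f (toB T σ) :=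
    IsPullback.of_hasPullback _ _
  obtain ⟨y, hy⟩ := exists_isEv hL (pullback.snd f (toB T σ)) (pullback.fst f (toB T σ))
    (lc (pullback.snd f (toB T σ)) (fun j => pullTop (pullback.fst f (toB T σ)) (ε j)) φu) (hF.map (toB T σ).appTop.hom)
  obtain ⟨a, ha, -⟩ := hη _ _ _ hV y
  refine ⟨fun m => ΓS.hom (a m), fun {T' C'} i f' g hP φ => ?_⟩
  obtain ⟨u, hu, hu'⟩ := exists_toAS g (fun x : σ => φ x.1 x.2)
  have hw : i ≫ f = (f' ≫ u) ≫ toB T σ := by rw [hP.w, Category.assoc, hu]
  obtain ⟨t, ht1, ht2⟩ : ∃ t : C' ⟶ pullback f (toB T σ), t ≫ pullback.fst f (toB T σ) = i ∧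
      t ≫ pullback.snd f (toB T σ) = f' ≫ u := ⟨hV.lift i (f' ≫ u) hw, hV.lift_fst _ _ _, hV.lift_snd _ _ _⟩
  subst ht1
  have h1 := IsEv.pull hy t f' u ht2
  -- the pulled back sections
  have hφ : (fun l i => u.appTop (φu l i)) = φ := by
    funext l i
    refine (hu' _).trans ?_
    rw [MvPolynomial.eval₂_X]
  have h2 : (fun j => ((Scheme.Modules.pullbackComp t (pullback.fst f (toB T σ))).hom.app L).app ⊤ (pullTop t
      (lc (pullback.snd f (toB T σ)) (fun j => pullTop (pullback.fst f (toB T σ)) (ε j)) φu j))) =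
      lc f' (fun j => pullTop (t ≫ pullback.fst f (toB T σ)) (ε j)) φ := by
    funext l
    rw [pullTop_lc ht2, hφ]
    refine (app_lc ((Scheme.Modules.pullbackComp t (pullback.fst f (toB T σ))).hom.app L) _ φ l).trans ?_
    congr 1
    funext j
    exact pullTop_comp' t _ (ε j)
  have h3 : (F.map (toB T σ).appTop.hom).map u.appTop.hom = F.map g.appTop.hom := by
    rw [MvPolynomial.map_map, ← hu, Scheme.Hom.comp_appTop]
    rfl
  rw [h2, h3] at h1
  rw [← eq_zero_iff_van hL (hF.map _) h1]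
  -- the coefficients of the value
  have h4 : ((Scheme.Modules.pullbackComp t (pullback.fst f (toB T σ))).hom.app (CohB1.tensorPow L d)).app ⊤
      (pullTop t y) = ∑ m, (f'.appTop (u.appTop (a m))) • pullTop (t ≫ pullback.fst f (toB T σ)) (η m) := by
    rw [ha, pullTop_sum_smul]
    refine (app_sum_smul ((Scheme.Modules.pullbackComp t (pullback.fst f (toB T σ))).hom.app
      (CohB1.tensorPow L d)) _ _).trans ?_
    refine Finset.sum_congr rfl fun m _ => ?_
    have h5 : t.appTop ((pullback.snd f (toB T σ)).appTop (a m)) = f'.appTop (u.appTop (a m)) := by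
      have h6 := congr(($(congrArg Scheme.Hom.appTop ht2)) (a m))
      rw [Scheme.Hom.comp_appTop, Scheme.Hom.comp_appTop] at h6
      exact h6
    rw [h5]
    exact congrArg _ (pullTop_comp' t _ (η m))
  rw [h4]
  have h7 : ∀ m, MvPolynomial.eval₂ g.appTop.hom (fun x => φ x.1 x.2) (ΓS.hom (a m)) = u.appTop (a m) := by
    intro m
    rw [← hu']
    congr 1
    exact congr($(ΓS.hom_inv_id) (a m))
  constructor
  · intro h0 m
    rw [h7]
    obtain ⟨a₀, -, h8⟩ := hη _ _ _ hP 0
    have h9 := (h8 (fun m => u.appTop (a m)) h0.symm).trans (h8 (fun _ => 0) (by simp)).symm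
    exact congrFun h9 m
  · intro h0
    refine Finset.sum_eq_zero fun m _ => ?_
    rw [← h7, h0, map_zero, zero_smul]

end Main

end K11.LinEqnB
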