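import Groth.Agent.Fano.K123.Van
import Groth.Agent.Fano.K837.StPull
import Groth.Agent.Fdesc.LocGenTensor

/-!
# The value of a form at sections of an invertible module

`i : C' ⟶ C`, `L` an invertible module on `C`, `x` sections of `i^* L`, `F` a form of degree `d`.
* `IsEv f' i d x F y`: the section `y` of `i^* (L ^ d)` is the value of the form `F` at the sections `x`;
* `exists_isEv`: the value exists;
* `eq_zero_iff_van`: it is zero iff the form vanishes at the sections (`K745.ConDef.Van`);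
* `IsEv.pull`: base change.
-/

set_option autoImplicit false

universe u

open CategoryTheory CategoryTheory.Limits AlgebraicGeometry

namespace K11.LinEv

open K390.PnSec Groth.Agent.Fdesc.LocGen K745.ConDef K123.Van K837.StPull

variable {T C C' : Scheme.{u}} {N d : ℕ} {L : C.Modules}

/-- The section `y` of `i^* (L ^ d)` is the value of the form `F` at the sections `x` of `i^* L`. -/
def IsEv (f' : C' ⟶ T) (i : C' ⟶ C) (d : ℕ) (x : Fin N → Γ((Scheme.Modules.pullback i).obj L, ⊤))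
    (F : MvPolynomial (Fin N) Γ(T, ⊤)) (y : Γ((Scheme.Modules.pullback i).obj (CohB1.tensorPow L d), ⊤)) : Prop :=
  ∀ (V : C.Opens) (e : Γ(L, V)) (W : C'.Opens) (hW : W ≤ i ⁻¹ᵁ V) (a : Fin N → Γ(C', W)), IsGen e →
    (∀ j, res _ le_top (x j) = a j • res _ hW (pullSec i e)) →
    res _ le_top y = MvPolynomial.eval₂ (ρV f' W) a F • res _ hW (pullSec i (pow e d))

/-- The local values of a form do not depend on the generator. -/
theorem compat {f' : C' ⟶ T} {i : C' ⟶ C} {x : Fin N → Γ((Scheme.Modules.pullback i).obj L, ⊤)}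
    {F : MvPolynomial (Fin N) Γ(T, ⊤)} (hF : F.IsHomogeneous d) {V₁ V₂ : C.Opens} {e₁ : Γ(L, V₁)} {e₂ : Γ(L, V₂)}
    (he₁ : IsGen e₁) (he₂ : IsGen e₂) {W : C'.Opens} (h₁ : W ≤ i ⁻¹ᵁ V₁) (h₂ : W ≤ i ⁻¹ᵁ V₂)
    {a₁ a₂ : Fin N → Γ(C', W)} (ha₁ : ∀ j, res _ le_top (x j) = a₁ j • res _ h₁ (pullSec i e₁))
    (ha₂ : ∀ j, res _ le_top (x j) = a₂ j • res _ h₂ (pullSec i e₂)) :
    MvPolynomial.eval₂ (ρV f' W) a₁ F • res _ h₁ (pullSec i (pow e₁ d)) =
      MvPolynomial.eval₂ (ρV f' W) a₂ F • res _ h₂ (pullSec i (pow e₂ d)) := by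
  obtain ⟨u, hu, hu'⟩ := (he₂.res (inf_le_right : V₁ ⊓ V₂ ≤ V₂)).exists_unit (he₁.res (inf_le_left : V₁ ⊓ V₂ ≤ V₁))
  have h : W ≤ i ⁻¹ᵁ (V₁ ⊓ V₂) := le_inf h₁ h₂
  let v : Γ(C', W) := ores h (i.app (V₁ ⊓ V₂) u)
  -- restriction of pulled back sections
  have hres : ∀ {M : C.Modules} {V : C.Opens} (hV : W ≤ i ⁻¹ᵁ V) (hV' : V₁ ⊓ V₂ ≤ V) (s : Γ(M, V)),
      res _ hV (pullSec i s) = res _ h (pullSec i (res M hV' s)) := by
    intro M V hV hV' s
    rw [← res_pullSec i hV' s, res_res]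
  have hv : res _ h₁ (pullSec i e₁) = v • res _ h₂ (pullSec i e₂) := by
    rw [hres h₁ inf_le_left, hres h₂ inf_le_right, hu', pullSec_smul, res_smul]
  have hp : res _ h₁ (pullSec i (pow e₁ d)) = v ^ d • res _ h₂ (pullSec i (pow e₂ d)) := by
    rw [hres h₁ inf_le_left, hres h₂ inf_le_right, res_pow, hu', smul_pow, res_pow, pullSec_smul, res_smul, map_pow,
      map_pow]
  have hgen : IsGen (res _ h₂ (pullSec i e₂)) := (he₂.pullSec i).res h₂
  have ha : ∀ j, a₂ j = v * a₁ j := by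
    intro j
    refine hgen.ext ?_
    rw [← ha₂, ha₁, hv, smul_smul, mul_comm]
  rw [funext ha, eval₂_mul_of_isHomogeneous _ hF, hp, smul_smul, mul_comm]

theorem exists_isEv (hL : PicF.IsInvertible L) (f' : C' ⟶ T) (i : C' ⟶ C)
    (x : Fin N → Γ((Scheme.Modules.pullback i).obj L, ⊤)) {F : MvPolynomial (Fin N) Γ(T, ⊤)}
    (hF : F.IsHomogeneous d) : ∃ y, IsEv f' i d x F y := by
  rw [isInvertible_iff] at hL
  choose V e hxV he using hL
  choose a ha using fun (t : C) (j : Fin N) => ((he t).pullSec i).exists_eq (res _ (le_top : i ⁻¹ᵁ V t ≤ ⊤) (x j))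
  have hcov : (⊤ : C'.Opens) ≤ ⨆ t, i ⁻¹ᵁ V t := by
    intro z _
    exact TopologicalSpace.Opens.mem_iSup.2 ⟨i.base z, hxV _⟩
  obtain ⟨y, hy⟩ := res_glue ((Scheme.Modules.pullback i).obj (CohB1.tensorPow L d)) (fun t => i ⁻¹ᵁ V t)
    (fun t => le_top) hcov (fun t => MvPolynomial.eval₂ (ρV f' (i ⁻¹ᵁ V t)) (a t) F • pullSec i (pow (e t) d)) (by
      intro t s
      rw [res_smul, res_smul, ores_eval₂, ores_eval₂]
      refine compat (x := x) hF (he t) (he s) _ _ (fun j => ?_) fun j => ?_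
      · rw [← res_res _ (le_top : i ⁻¹ᵁ V t ≤ ⊤) inf_le_left, ha, res_smul]
      · rw [← res_res _ (le_top : i ⁻¹ᵁ V s ≤ ⊤) inf_le_right, ha, res_smul])
  refine ⟨y, fun V₁ e₁ W hW b he₁ hb => ?_⟩
  refine res_ext _ (fun t => W ⊓ i ⁻¹ᵁ V t) (fun t => inf_le_left) ?_ fun t => ?_
  · intro z hz
    exact TopologicalSpace.Opens.mem_iSup.2 ⟨i.base z, hz, hxV _⟩
  · rw [res_res, ← res_res _ (le_top : i ⁻¹ᵁ V t ≤ ⊤) (inf_le_right : W ⊓ i ⁻¹ᵁ V t ≤ _), hy, res_smul, res_smul,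
      ores_eval₂, ores_eval₂, res_res]
    refine compat (x := x) hF (he t) he₁ _ _ (fun j => ?_) fun j => ?_
    · rw [← res_res _ (le_top : i ⁻¹ᵁ V t ≤ ⊤) inf_le_right, ha, res_smul]
    · rw [← res_res _ (le_top : W ≤ ⊤) inf_le_left, hb, res_smul, res_res]

/-- The value of a form is zero iff the form vanishes. -/
theorem eq_zero_iff_van (hL : PicF.IsInvertible L) {f' : C' ⟶ T} {i : C' ⟶ C}
    {x : Fin N → Γ((Scheme.Modules.pullback i).obj L, ⊤)} {F : MvPolynomial (Fin N) Γ(T, ⊤)}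
    (hF : F.IsHomogeneous d) {y : Γ((Scheme.Modules.pullback i).obj (CohB1.tensorPow L d), ⊤)}
    (h : IsEv f' i d x F y) : y = 0 ↔ Van f' x F := by
  rw [isInvertible_iff] at hL
  choose V e hxV he using hL
  choose a ha using fun (t : C) (j : Fin N) => ((he t).pullSec i).exists_eq (res _ (le_top : i ⁻¹ᵁ V t ≤ ⊤) (x j))
  have h1 : ∀ t, res _ le_top y = MvPolynomial.eval₂ (ρV f' (i ⁻¹ᵁ V t)) (a t) F • pullSec i (pow (e t) d) := by
    intro t
    have h2 := h (V t) (e t) (i ⁻¹ᵁ V t) le_rfl (a t) (he t) (fun j => by rw [res_refl, ha])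
    rw [res_refl] at h2
    exact h2
  constructor
  · rintro rfl
    refine van_of_cover hF fun z => ?_
    refine ⟨i ⁻¹ᵁ V (i.base z), hxV _, pullSec i (e _), a _, (he _).pullSec i, fun j => ha _ _, ?_⟩
    refine (((he (i.base z)).pow d).pullSec i).ext ?_
    rw [← h1, zero_smul, map_zero]
  · intro hv
    refine res_ext _ (fun t => i ⁻¹ᵁ V t) (fun t => le_top) ?_ fun t => ?_
    · intro z _
      exact TopologicalSpace.Opens.mem_iSup.2 ⟨i.base z, hxV _⟩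
    · rw [h1, map_zero, hv _ _ _ ((he t).pullSec i) (ha t), zero_smul]

/-- Base change of the value of a form. -/
theorem IsEv.pull {f' : C' ⟶ T} {i : C' ⟶ C} {x : Fin N → Γ((Scheme.Modules.pullback i).obj L, ⊤)}
    {F : MvPolynomial (Fin N) Γ(T, ⊤)} {y : Γ((Scheme.Modules.pullback i).obj (CohB1.tensorPow L d), ⊤)}
    (h : IsEv f' i d x F y) {C'' T'' : Scheme.{u}} (t : C'' ⟶ C') (f'' : C'' ⟶ T'') (b : T'' ⟶ T)
    (hw : t ≫ f' = f'' ≫ b) :
    IsEv f'' (t ≫ i) d (fun j => ((Scheme.Modules.pullbackComp t i).hom.app L).app ⊤ (pullTop t (x j)))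
      (F.map b.appTop.hom)
      (((Scheme.Modules.pullbackComp t i).hom.app (CohB1.tensorPow L d)).app ⊤ (pullTop t y)) := by
  intro V e W hW a he ha
  have hgen : IsGen (pullSec i e) := he.pullSec i
  choose a' ha' using fun (j : Fin N) => hgen.exists_eq (res _ (le_top : i ⁻¹ᵁ V ≤ ⊤) (x j))
  have hW' : W ≤ t ⁻¹ᵁ (i ⁻¹ᵁ V) := hW
  -- pulling back a section of `i^* M`
  have key : ∀ {M : C.Modules} (s : Γ((Scheme.Modules.pullback i).obj M, ⊤)) (s₀ : Γ(M, V)) (c : Γ(C', i ⁻¹ᵁ V)),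
      res _ (le_top : i ⁻¹ᵁ V ≤ ⊤) s = c • pullSec i s₀ →
      res _ (le_top : W ≤ ⊤) (((Scheme.Modules.pullbackComp t i).hom.app M).app ⊤ (pullTop t s)) =
        ores hW' (t.app (i ⁻¹ᵁ V) c) • res _ hW (pullSec (t ≫ i) s₀) := by
    intro M s s₀ c hs
    have h1 : res _ (le_top : t ⁻¹ᵁ (i ⁻¹ᵁ V) ≤ ⊤) (pullTop t s) = pullSec t (res _ le_top s) :=
      res_pullSec t (le_top : i ⁻¹ᵁ V ≤ ⊤) s
    rw [hs, pullSec_smul] at h1
    let p₀ : Γ((Scheme.Modules.pullback (t ≫ i)).obj M, t ⁻¹ᵁ (i ⁻¹ᵁ V)) := pullSec (t ≫ i) s₀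
    have h2 : res _ (le_top : t ⁻¹ᵁ (i ⁻¹ᵁ V) ≤ ⊤)
        (((Scheme.Modules.pullbackComp t i).hom.app M).app ⊤ (pullTop t s)) =
        (t.app (i ⁻¹ᵁ V) c : Γ(C'', t ⁻¹ᵁ (i ⁻¹ᵁ V))) • p₀ := by
      refine (app_res _ _ _).symm.trans ((congrArg
        (((Scheme.Modules.pullbackComp t i).hom.app M).app (t ⁻¹ᵁ (i ⁻¹ᵁ V))) h1).trans ?_)
      refine (Scheme.Modules.Hom.app_smul _ _ _).trans ?_
      exact congrArg (fun z => (t.app (i ⁻¹ᵁ V) c : Γ(C'', t ⁻¹ᵁ (i ⁻¹ᵁ V))) • z) (pullSec_comp' t i s₀)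
    have h3 := congrArg (res _ hW') h2
    rw [res_res, res_smul] at h3
    exact h3
  have h4 := key y (pow e d) _ (h V e (i ⁻¹ᵁ V) le_rfl a' he (fun j => by rw [res_refl, ha']) |>.trans
    (by rw [res_refl]))
  have h5 : ∀ j, a j = ores hW' (t.app (i ⁻¹ᵁ V) (a' j)) := by
    intro j
    have h6 : IsGen (res _ hW (pullSec (t ≫ i) e)) := (he.pullSec (t ≫ i)).res hW
    refine h6.ext ?_
    rw [← ha, key (x j) e (a' j) (ha' j)]
  rw [h4, app_eval₂, ores_eval₂, funext h5, hw, ρV_comp, MvPolynomial.eval₂_map]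

end K11.LinEv
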