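import Groth.Agent.Fano.K505.KonDef

/-!
# Morphisms to the spectrum of `RV`

For a linear chart `ℓ` (`K505.KonDef.LinChart`):
* `toU_appTop`, `φAt_comp`, `eval₂_P`: the morphism to the base of the chart and the matrix of a morphism `u` to `Spec RV`;
* `exists_hom`: a morphism to the base of the chart and a matrix at which the polynomials `P` vanish give a morphism to
  `Spec RV`;
* `hom_ext`: morphisms to `Spec RV` are determined by the morphism to the base of the chart and the matrix.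
-/

set_option autoImplicit false

universe u

open CategoryTheory CategoryTheory.Limits AlgebraicGeometry

namespace K11.UnivRV

open K505.KonDef

variable {k : Type u} [Field k] {r m n d e : ℕ} {G : LefPen.Form n k d} {c : CrvChart k (r + m)}
  (ℓ : LinChart c G e)

/-- The spectrum of the ring of pairs. -/
noncomputable abbrev V : Scheme.{u} := Spec (CommRingCat.of ℓ.RV)

theorem toU_appTop (a : c.R) : ℓ.toU.appTop a =
    (Scheme.ΓSpecIso (CommRingCat.of ℓ.RV)).inv (algebraMap c.R ℓ.RV a) := by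
  have := c.isAffine
  have h1 : (c.U.left.isoSpec).inv.appTop = (Scheme.ΓSpecIso Γ(c.U.left, ⊤)).inv := by
    have h2 : (c.U.left.isoSpec).inv ≫ (c.U.left.isoSpec).hom = 𝟙 _ := Iso.inv_hom_id _
    have h3 := congrArg Scheme.Hom.appTop h2
    rw [Scheme.Hom.comp_appTop, Scheme.Hom.id_appTop] at h3
    have h4 : (c.U.left.isoSpec).hom.appTop = (Scheme.ΓSpecIso Γ(c.U.left, ⊤)).hom := Scheme.toSpecΓ_appTop _
    rw [h4] at h3
    rw [← cancel_epi (Scheme.ΓSpecIso Γ(c.U.left, ⊤)).hom, h3, Iso.hom_inv_id]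
  unfold LinChart.toU
  rw [Scheme.Hom.comp_appTop, h1, ← Scheme.ΓSpecIso_inv_naturality]
  rfl

variable {ℓ} {T T' : Scheme.{u}}

theorem φAt_comp (g : T' ⟶ T) (u : T ⟶ V ℓ) (l : Fin (n + 1)) (i : Fin (e + 1)) :
    ℓ.φAt (g ≫ u) l i = g.appTop (ℓ.φAt u l i) := by
  unfold LinChart.φAt
  rw [Scheme.Hom.comp_appTop]
  rfl

/-- The ring homomorphism of a morphism to `Spec RV`. -/
noncomputable def rh (u : T ⟶ V ℓ) : ℓ.RV →+* Γ(T, ⊤) :=
  u.appTop.hom.comp (Scheme.ΓSpecIso (CommRingCat.of ℓ.RV)).inv.hom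

theorem rh_algebraMap (u : T ⟶ V ℓ) (a : c.R) : rh u (algebraMap c.R ℓ.RV a) = (u ≫ ℓ.toU).appTop a := by
  rw [Scheme.Hom.comp_appTop]
  change u.appTop ((Scheme.ΓSpecIso (CommRingCat.of ℓ.RV)).inv (algebraMap c.R ℓ.RV a)) = u.appTop (ℓ.toU.appTop a)
  rw [toU_appTop]

theorem rh_X (u : T ⟶ V ℓ) (l : Fin (n + 1)) (i : Fin (e + 1)) :
    rh u (Ideal.Quotient.mk _ (MvPolynomial.X (l, i))) = ℓ.φAt u l i := rfl

theorem rh_mk (u : T ⟶ V ℓ) (p : MvPolynomial (Fin (n + 1) × Fin (e + 1)) c.R) :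
    rh u (Ideal.Quotient.mk _ p) =
      MvPolynomial.eval₂ (u ≫ ℓ.toU).appTop.hom (fun p => ℓ.φAt u p.1 p.2) p := by
  have h : (rh u).comp (Ideal.Quotient.mk _) =
      MvPolynomial.eval₂Hom (u ≫ ℓ.toU).appTop.hom (fun p => ℓ.φAt u p.1 p.2) := by
    apply MvPolynomial.ringHom_ext
    · intro a
      rw [MvPolynomial.eval₂Hom_C]
      exact rh_algebraMap u a
    · intro p
      rw [MvPolynomial.eval₂Hom_X']
      exact rh_X u p.1 p.2
  exact congr($h p)

/-- The polynomials `P` vanish at the matrix of a morphism to `Spec RV`. -/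
theorem eval₂_P (u : T ⟶ V ℓ) (i : Fin (d * e + 1)) :
    MvPolynomial.eval₂ (u ≫ ℓ.toU).appTop.hom (fun p => ℓ.φAt u p.1 p.2) (ℓ.P i) = 0 := by
  rw [← rh_mk]
  have h : Ideal.Quotient.mk (Ideal.span (Set.range ℓ.P)) (ℓ.P i) = 0 :=
    Ideal.Quotient.eq_zero_iff_mem.2 (Ideal.subset_span ⟨i, rfl⟩)
  rw [h, map_zero]

theorem rh_injective {u u' : T ⟶ V ℓ} (h : rh u = rh u') : u = u' := by
  refine ext_of_isAffine ?_
  rw [← cancel_epi (Scheme.ΓSpecIso (CommRingCat.of ℓ.RV)).inv]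
  exact CommRingCat.hom_ext h

/-- Morphisms to `Spec RV` are determined by the morphism to the base of the chart and the matrix. -/
theorem hom_ext {u u' : T ⟶ V ℓ} (h1 : u ≫ ℓ.toU = u' ≫ ℓ.toU) (h2 : ∀ l i, ℓ.φAt u l i = ℓ.φAt u' l i) :
    u = u' := by
  apply rh_injective
  apply Ideal.Quotient.ringHom_ext
  apply MvPolynomial.ringHom_ext
  · intro a
    have h3 : (u ≫ ℓ.toU).appTop a = (u' ≫ ℓ.toU).appTop a := by rw [h1]
    exact (rh_algebraMap u a).trans (h3.trans (rh_algebraMap u' a).symm)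
  · intro p
    exact h2 p.1 p.2

/-- A morphism to the base of the chart and a matrix at which the polynomials `P` vanish give a morphism to `Spec RV`. -/
theorem exists_hom (b : T ⟶ c.U.left) (φ : Fin (n + 1) → Fin (e + 1) → Γ(T, ⊤))
    (h : ∀ i, MvPolynomial.eval₂ b.appTop.hom (fun p => φ p.1 p.2) (ℓ.P i) = 0) :
    ∃ u : T ⟶ V ℓ, u ≫ ℓ.toU = b ∧ ∀ l i, ℓ.φAt u l i = φ l i := by
  have := c.isAffine
  let ψ : ℓ.RV →+* Γ(T, ⊤) := Ideal.Quotient.lift (Ideal.span (Set.range ℓ.P))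
    (MvPolynomial.eval₂Hom b.appTop.hom (fun p => φ p.1 p.2)) (fun a ha => by
      have h1 : Ideal.span (Set.range ℓ.P) ≤
          RingHom.ker (MvPolynomial.eval₂Hom b.appTop.hom (fun p => φ p.1 p.2)) := by
        rw [Ideal.span_le]
        rintro _ ⟨i, rfl⟩
        exact h i
      exact h1 ha)
  let u : T ⟶ V ℓ := T.toSpecΓ ≫ Spec.map (CommRingCat.ofHom ψ)
  have hu : rh u = ψ := by
    have h1 : (Scheme.ΓSpecIso (CommRingCat.of ℓ.RV)).inv ≫ u.appTop = CommRingCat.ofHom ψ := by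
      change _ ≫ (T.toSpecΓ ≫ Spec.map (CommRingCat.ofHom ψ)).appTop = _
      rw [Scheme.Hom.comp_appTop, ← Category.assoc, ← Scheme.ΓSpecIso_inv_naturality, Category.assoc,
        Scheme.toSpecΓ_appTop, Iso.inv_hom_id, Category.comp_id]
    exact congrArg CommRingCat.Hom.hom h1
  refine ⟨u, ext_of_isAffine ?_, fun l i => ?_⟩
  · ext a
    refine (rh_algebraMap u a).symm.trans ?_
    rw [hu]
    change ψ (Ideal.Quotient.mk _ (MvPolynomial.C a)) = _
    change MvPolynomial.eval₂Hom b.appTop.hom (fun p : Fin (n + 1) × Fin (e + 1) => φ p.1 p.2)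
      (MvPolynomial.C a) = _
    rw [MvPolynomial.eval₂Hom_C]
  · rw [← rh_X, hu]
    change MvPolynomial.eval₂Hom b.appTop.hom (fun p : Fin (n + 1) × Fin (e + 1) => φ p.1 p.2)
      (MvPolynomial.X (l, i)) = _
    rw [MvPolynomial.eval₂Hom_X']

end K11.UnivRV
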