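import Groth.Agent.Fano.K11.UnivStab
import Groth.Agent.Fano.K11.UnivRV
import Groth.Agent.Fano.K423.ConE
import Mathlib.AlgebraicGeometry.PullbackCarrier

/-!
# The universal family of a linear chart

* `reg ℓ`: the open subscheme of `Spec RV` over which the sections of the universal matrix generate;
* `reg_iff`: a morphism `u` to `Spec RV` has image in `reg ℓ` iff the sections of its matrix generate;
* `nonempty_univ`: for `1 ≤ e` each linear chart has a universal family (`K505.KonDef.Univ`), over `reg ℓ`.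
-/

set_option autoImplicit false

universe u

open CategoryTheory CategoryTheory.Limits AlgebraicGeometry TopologicalSpace

namespace K11.UnivMain

open K390.PnSec Groth.Agent.Fdesc.LocGen Groth.Agent.Dix.ProjProper K188.LineDef K745.ConDef K505.KonDef
open W4swstmapratcurves K837.StPull K11.UnivKit K11.UnivRV

theorem exists_point {A B C D : Scheme.{u}} {f : A ⟶ B} {g : A ⟶ C} {h : B ⟶ D} {i : C ⟶ D}
    (hP : IsPullback f g h i) (x : B) (y : C) (hxy : h.base x = i.base y) : ∃ z, f.base z = x ∧ g.base z = y := by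
  obtain ⟨z, h1, h2⟩ := Scheme.Pullback.exists_preimage_pullback (f := h) (g := i) x y hxy
  refine ⟨hP.isoPullback.inv.base z, ?_, ?_⟩
  · rw [← h1, ← hP.isoPullback_inv_fst]
    rfl
  · rw [← h2, ← hP.isoPullback_inv_snd]
    rfl

variable {k : Type u} [Field k] {r m n d e : ℕ} {G : LefPen.Form n k d} {c : CrvChart k (r + m)}

section Reg

variable (ℓ : LinChart c G e) {T C' : Scheme.{u}}

/-- The sections of the map of a morphism to `Spec RV`. -/
noncomputable abbrev sc (u : T ⟶ V ℓ) (i : C' ⟶ c.C) (f' : C' ⟶ T) (l : Fin (n + 1)) :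
    Γ((Scheme.Modules.pullback i).obj ℓ.L, ⊤) := lc f' (fun j => pullTop i (ℓ.ε j)) (ℓ.φAt u) l

/-- The closed set of points of `Spec RV` over which the sections do not generate. -/
def bad : Set (V ℓ) := (pullback.snd c.f ℓ.toU).base ''
  ((⨆ l, CohB1.genLocus _ (homOf (sc ℓ (𝟙 (V ℓ)) (pullback.fst c.f ℓ.toU) (pullback.snd c.f ℓ.toU) l)) :
    (pullback c.f ℓ.toU).Opens) : Set ↥(pullback c.f ℓ.toU))ᶜ

theorem isClosed_bad : IsClosed (bad ℓ) := by
  have h1 : IsProper c.f := c.isPre.2.1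
  have h2 : IsProper (pullback.snd c.f ℓ.toU) := inferInstance
  exact (pullback.snd c.f ℓ.toU).isClosedMap _ (Opens.isOpen _).isClosed_compl

/-- The open subscheme of `Spec RV` over which the sections of the universal matrix generate. -/
def reg : (V ℓ).Opens := ⟨(bad ℓ)ᶜ, (isClosed_bad ℓ).isOpen_compl⟩

variable {ℓ} in
/-- The sections of the map of a morphism `u` generate iff the image of `u` is contained in `reg ℓ`. -/
theorem reg_iff {u : T ⟶ V ℓ} {i : C' ⟶ c.C} {f' : C' ⟶ T} (hP : IsPullback i f' c.f (u ≫ ℓ.toU)) :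
    ⨆ l, CohB1.genLocus _ (homOf (sc ℓ u i f' l)) = ⊤ ↔ ∀ t, u.base t ∈ reg ℓ := by
  have hV : IsPullback (pullback.fst c.f ℓ.toU) (pullback.snd c.f ℓ.toU) c.f ℓ.toU := IsPullback.of_hasPullback _ _
  have hw : i ≫ c.f = (f' ≫ u) ≫ ℓ.toU := by rw [hP.w, Category.assoc]
  let t : C' ⟶ pullback c.f ℓ.toU := hV.lift i (f' ≫ u) hw
  have h1 : t ≫ pullback.fst c.f ℓ.toU = i := hV.lift_fst _ _ _
  have h2 : t ≫ pullback.snd c.f ℓ.toU = f' ≫ u := hV.lift_snd _ _ _
  have hT : IsPullback t f' (pullback.snd c.f ℓ.toU) u := by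
    refine IsPullback.of_right (h₁₂ := pullback.fst c.f ℓ.toU) (h₂₂ := ℓ.toU) (v₁₃ := c.f) ?_ h2 hV
    rw [h1]
    exact hP
  have hx : Pb t (fun j => pullTop (pullback.fst c.f ℓ.toU) (ℓ.ε j)) (fun j => pullTop i (ℓ.ε j)) := by
    refine Pb.of_comp ?_
    rw [h1]
    exact Pb.refl _ _
  have h3 := iSup_genLocus_of_pb (isInvertible_pullback _ ℓ.inv) (pb_lc h2 hx (ℓ.φAt (𝟙 (V ℓ))))
  have h4 : (fun l i => u.appTop (ℓ.φAt (𝟙 (V ℓ)) l i)) = ℓ.φAt u := by
    funext l i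
    rw [← φAt_comp, Category.comp_id]
  rw [h4] at h3
  rw [h3]
  constructor
  · intro h y hy
    obtain ⟨x, hx1, hx2⟩ := hy
    obtain ⟨z, hz1, -⟩ := exists_point hT x y hx2
    have h5 : z ∈ t ⁻¹ᵁ (⨆ l, CohB1.genLocus _ (homOf (sc ℓ (𝟙 (V ℓ)) (pullback.fst c.f ℓ.toU)
        (pullback.snd c.f ℓ.toU) l))) := by
      rw [h]
      trivial
    apply hx1
    rw [← hz1]
    exact h5
  · intro h
    rw [eq_top_iff]
    intro z _
    by_contra hz
    refine h (f'.base z) ⟨t.base z, hz, ?_⟩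
    have h6 := congrArg (fun φ => φ.base z) h2
    exact h6

end Reg

section Univ

variable (ℓ : LinChart c G e)

/-- The morphism of `reg ℓ` to the base of the chart. -/
noncomputable abbrev gW : (reg ℓ).toScheme ⟶ c.U.left := (reg ℓ).ι ≫ ℓ.toU

/-- The universal curve over `reg ℓ`. -/
noncomputable abbrev CW : Scheme.{u} := pullback c.f (gW ℓ)

theorem isPullback_CW : IsPullback (pullback.fst c.f (gW ℓ)) (pullback.snd c.f (gW ℓ)) c.f (gW ℓ) :=
  IsPullback.of_hasPullback _ _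

/-- The marked sections of the universal curve over `reg ℓ`. -/
noncomputable def sW (i : Fin (r + m)) : (reg ℓ).toScheme ⟶ CW ℓ :=
  (isPullback_CW ℓ).lift (gW ℓ ≫ c.B.sect i) (𝟙 _) (by
    rw [Category.assoc, Category.id_comp]
    have h := c.B.sect_f i
    change gW ℓ ≫ c.B.sect i ≫ c.B.f = _
    rw [h]
    exact Category.comp_id _)

theorem sW_fst (i : Fin (r + m)) : sW ℓ i ≫ pullback.fst c.f (gW ℓ) = gW ℓ ≫ c.B.sect i :=
  (isPullback_CW ℓ).lift_fst _ _ _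

theorem sW_snd (i : Fin (r + m)) : sW ℓ i ≫ pullback.snd c.f (gW ℓ) = 𝟙 _ :=
  (isPullback_CW ℓ).lift_snd _ _ _

/-- The map of the universal family. -/
theorem exists_map : ∃ μ : CW ℓ ⟶ (hypOver G).left, μ ≫ (hypOver G).hom = pullback.snd c.f (gW ℓ) ≫ gW ℓ ≫ c.U.hom ∧
    GivenBy (μ ≫ (LefPen.hypIdeal G).subschemeι) ((Scheme.Modules.pullback (pullback.fst c.f (gW ℓ))).obj ℓ.L)
      (lc (pullback.snd c.f (gW ℓ)) (fun j => pullTop (pullback.fst c.f (gW ℓ)) (ℓ.ε j)) (ℓ.φAt (reg ℓ).ι)) := by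
  have hreg := (reg_iff (isPullback_CW ℓ)).2 fun t => t.2
  obtain ⟨μ, hμ, hs⟩ := exists_givenBy (R := k) (pullback.snd c.f (gW ℓ) ≫ gW ℓ ≫ c.U.hom) _ hreg
  obtain ⟨ν, hν⟩ := (K423.ConE.exists_lift_iff_van (pullback.snd c.f (gW ℓ)) (gW ℓ ≫ c.U.hom) μ hμ _ hs G).2
    ((ℓ.P_iff _ _ _ (isPullback_CW ℓ) _).2 (eval₂_P (reg ℓ).ι))
  refine ⟨ν, ?_, ?_⟩
  · rw [← hμ, ← hν, Category.assoc]
    rfl
  · rw [hν]
    exact hs

/-- The universal family. -/
noncomputable def fam : Fam G r where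
  base := Over.mk (gW ℓ ≫ c.U.hom)
  C := CW ℓ
  f := pullback.snd c.f (gW ℓ)
  sect i := sW ℓ (Fin.castAdd m i)
  sect_f _ := sW_snd ℓ _
  map := (exists_map ℓ).choose
  map_over := (exists_map ℓ).choose_spec.1

/-- The datum of the universal family. -/
noncomputable def dat : Datum ℓ (fam ℓ) :=
  mkDatum (fam ℓ) (fun i => sW ℓ (Fin.natAdd r i)) (fun _ => sW_snd ℓ _) (pullback.fst c.f (gW ℓ))
    (Over.homMk (gW ℓ) rfl) (isPullback_CW ℓ) (fun _ => sW_fst ℓ _) (fun _ => sW_fst ℓ _) (ℓ.φAt (reg ℓ).ι)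
    (exists_map ℓ).choose_spec.2

variable {ℓ}

/-- The morphism to `Spec RV` of a family with a datum. -/
theorem exists_toRV {Y : Fam G r} (D : Datum ℓ Y) : ∃ b : Y.base ⟶ (fam ℓ).base, bs D = b ≫ bs (dat ℓ) ∧
    ∀ l i, D.φ l i = b.left.appTop ((dat ℓ).φ l i) := by
  have hw : (bs D).left ≫ c.U.hom = Y.base.hom := Over.w (bs D)
  have hv : Van Y.f (lc Y.f (fun j => pullTop (tp D) (ℓ.ε j)) D.φ) (G.1.map (kmap ((bs D).left ≫ c.U.hom))) := by
    refine (K423.ConE.exists_lift_iff_van Y.f _ (Y.map ≫ (LefPen.hypIdeal G).subschemeι) ?_ _ (givenBy D) G).1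
      ⟨Y.map, rfl⟩
    rw [hw]
    exact map_toSpec Y
  obtain ⟨u, hu1, hu2⟩ := exists_hom _ _ ((ℓ.P_iff _ _ _ (cart D) _).1 hv)
  have hφ : ℓ.φAt u = D.φ := funext fun l => funext fun i => hu2 l i
  have hP : IsPullback (tp D) Y.f c.f (u ≫ ℓ.toU) := by
    rw [hu1]
    exact cart D
  have hreg := (reg_iff hP).1 (by
    unfold sc
    rw [hφ]
    exact iSup_genLocus D)
  have hr : Set.range u.base ⊆ Set.range (reg ℓ).ι.base := by
    rintro _ ⟨t, rfl⟩
    rw [Scheme.Opens.range_ι]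
    exact hreg t
  let b : Y.base.left ⟶ (reg ℓ).toScheme := IsOpenImmersion.lift (reg ℓ).ι u hr
  have hb : b ≫ (reg ℓ).ι = u := IsOpenImmersion.lift_fac _ _ _
  have hbU : b ≫ gW ℓ = (bs D).left := by
    rw [← Category.assoc, hb, hu1]
  refine ⟨Over.homMk b ?_, ?_, fun l i => ?_⟩
  · change b ≫ gW ℓ ≫ c.U.hom = _
    rw [← Category.assoc, hbU, hw]
  · exact Over.OverMorphism.ext hbU.symm
  · change _ = b.appTop (ℓ.φAt (reg ℓ).ι l i)
    rw [← φAt_comp, hb, hφ]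

theorem toRV_unique {Y : Fam G r} {b b' : Y.base ⟶ (fam ℓ).base} (h1 : b ≫ bs (dat ℓ) = b' ≫ bs (dat ℓ))
    (h2 : ∀ l i, b.left.appTop ((dat ℓ).φ l i) = b'.left.appTop ((dat ℓ).φ l i)) : b = b' := by
  refine Over.OverMorphism.ext ?_
  have h3 : b.left ≫ (reg ℓ).ι = b'.left ≫ (reg ℓ).ι := by
    refine hom_ext ?_ fun l i => ?_
    · have h4 := congrArg (fun φ => φ.left) h1
      rw [Category.assoc, Category.assoc]
      exact h4
    · rw [φAt_comp, φAt_comp]
      exact h2 l i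
  exact (cancel_mono (reg ℓ).ι).1 h3

variable (ℓ)

/-- **The universal family** of a linear chart. -/
theorem nonempty_univ (he : 1 ≤ e) : Nonempty (Univ ℓ) := by
  have hι : IsOpenImmersion (reg ℓ).ι := inferInstance
  refine ⟨{ A := ⟨fam ℓ, UnivStab.mem_mst he (dat ℓ)⟩, D := dat ℓ, univ := ?_, j := (reg ℓ).ι,
            isOpenImmersion := hι, base := rfl, φ := fun _ _ => rfl }⟩
  intro Y D'
  obtain ⟨b, hb, hφ⟩ := exists_toRV D'
  obtain ⟨g, ⟨hg1, hg2⟩, hg3⟩ := existsUnique_hom D' (dat ℓ) b hb hφ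
  refine ⟨⟨g⟩, hg2, ?_⟩
  rintro ⟨g'⟩ hg'
  have h1 : g' = g := by
    refine hg3 g' ⟨?_, hg'⟩
    refine toRV_unique ?_ fun l i => ?_
    · exact (IsPull.bs_eq hg').symm.trans hb
    · exact (hg'.φ l i).symm.trans (hφ l i)
  subst h1
  rfl

end Univ

end K11.UnivMain
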