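import Groth.Agent.Fano.K11.UnivKit
import Groth.Agent.CurvesC.DegIso

/-!
# Families of maps with a datum are stable

* `markedPt_eq`: marked points of composed squares;
* `contracted`: a map given by sections of `L` which contracts a nonempty set `E` to a point has a section which generates `L`
  along `E`;
* `mem_mst`: for `1 ≤ e` a family of maps with a datum for a linear chart is a stable family of genus `0` and degree `e`.
-/

set_option autoImplicit false

universe u

open CategoryTheory CategoryTheory.Limits AlgebraicGeometry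

namespace K11.UnivStab

open K390.PnSec Groth.Agent.Fdesc.LocGen Groth.Agent.Dix.ProjProper K188.LineDef K745.ConDef K505.KonDef
open Groth.Agent.Ega2.H295.PnUniq Groth.Agent.Ega2.H295.PnCoord
open W4swstmapratcurves K837.StPull K11.UnivKit

section Marks

variable {C T C' T' : Scheme.{u}} {f : C ⟶ T} {f' : C' ⟶ T'} {N N' : ℕ} {σ : Fin N → (T ⟶ C)}
  {hσ : ∀ i, σ i ≫ f = 𝟙 T} {σ' : Fin N' → (T' ⟶ C')} {hσ' : ∀ i, σ' i ≫ f' = 𝟙 T'} {a : C' ⟶ C} {b : T' ⟶ T}

/-- The marked points of composed squares. -/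
theorem markedPt_eq (sq : IsPullback a f' f b) {j : Fin N} {j' : Fin N'} (hj : σ' j' ≫ a = b ≫ σ j) {Ω : Type u}
    [Field Ω] {t : Spec (CommRingCat.of Ω) ⟶ T'} {X : Scheme.{u}} {i : X ⟶ C'} {q : X ⟶ Spec (CommRingCat.of Ω)}
    (hP : IsPullback i q f' t) :
    CurvSt.markedPt σ hσ (hP.paste_horiz sq) j = CurvSt.markedPt σ' hσ' hP j' := by
  have key : (hP.paste_horiz sq).lift ((t ≫ b) ≫ σ j) (𝟙 _)
      (by rw [Category.assoc, hσ, Category.comp_id, Category.id_comp]) =
      hP.lift (t ≫ σ' j') (𝟙 _) (by rw [Category.assoc, hσ', Category.comp_id, Category.id_comp]) := by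
    refine (hP.paste_horiz sq).hom_ext ?_ ?_
    · rw [IsPullback.lift_fst, IsPullback.lift_fst_assoc, Category.assoc, Category.assoc, hj]
    · rw [IsPullback.lift_snd, IsPullback.lift_snd]
  exact congrArg (fun φ => φ.base (IsLocalRing.closedPoint Ω)) key

/-- Forgetting marked points of a prestable curve. -/
theorem isPrestablePtd_comp {Ω : Type u} [Field Ω] [IsAlgClosed Ω] {X : Scheme.{u}}
    {q : X ⟶ Spec (CommRingCat.of Ω)} {g : ℕ} {x : Fin N → X} (h : StMap.IsPrestablePtd Ω X q g x)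
    (p : Fin N' → Fin N) (hp : Function.Injective p) : StMap.IsPrestablePtd Ω X q g (fun j => x (p j)) := by
  obtain ⟨h1, h2, h3, h4, h5, h6⟩ := h
  exact ⟨h1, h2, h3, h4, h5.comp hp, fun j => h6 (p j)⟩

end Marks

section Contract

variable {X Y : Scheme.{u}} {n : ℕ} {R : Type u} [CommRing R] {M : X.Modules}

/-- A morphism to projective space given by sections of `M` which contracts a nonempty set to a point: one of the
sections generates `M` along the set. -/
theorem contracted {μ : X ⟶ CohB1.ProjSpace n R} {s : Fin (n + 1) → Γ(M, ⊤)} (h : GivenBy μ M s) {E : Set X}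
    (hne : E.Nonempty) (hE : (μ.base '' E).Subsingleton) : ∃ l, E ⊆ (CohB1.genLocus M (homOf (s l)) : Set X) := by
  obtain ⟨x, hx⟩ := hne
  have h1 : x ∈ ⨆ l, CohB1.genLocus M (homOf (s l)) := by
    rw [h.iSup_genLocus]
    trivial
  obtain ⟨l, hl⟩ := TopologicalSpace.Opens.mem_iSup.1 h1
  refine ⟨l, fun y hy => ?_⟩
  obtain ⟨τ, hτ⟩ := h
  have h2 : CohB1.genLocus M (homOf (s l)) = μ ⁻¹ᵁ (CohB1.genLocus (O1 n R) (homOf (cd n R l))) := by
    rw [← hτ, genLocus_app]
    exact genLocus_pullTop μ (isInvertible_O1 n R) (cd n R l)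
  rw [h2] at hl ⊢
  have h3 : μ.base y = μ.base x := hE ⟨y, hy, rfl⟩ ⟨x, hx, rfl⟩
  change μ.base y ∈ (CohB1.genLocus (O1 n R) (homOf (cd n R l)) : Set (CohB1.ProjSpace n R))
  rw [h3]
  exact hl

/-- A module which is generated by one section has degree zero. -/
theorem deg_eq_zero {Ω : Type u} [Field Ω] [X.Over (Spec (CommRingCat.of Ω))] {s : Γ(M, ⊤)}
    (h : (Set.univ : Set X) ⊆ (CohB1.genLocus M (homOf s) : Set X)) : Curv2.deg Ω X M 1 = 0 := by
  have h1 : IsIso (homOf s) := by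
    rw [isIso_iff_isGen, ← le_genLocus_iff]
    exact fun x _ => h trivial
  rw [← Groth.Agent.CurvesC.DegIso.deg_congr Ω (asIso (homOf s)) 1]
  simp [Curv2.deg]

end Contract

section Main

variable {k : Type u} [Field k] {r m n d e : ℕ} {G : LefPen.Form n k d} {c : CrvChart k (r + m)}
  {ℓ : LinChart c G e}

/-- On a fibre, the module of a datum is the pullback of `O(1)`. -/
theorem nonempty_iso {A : Fam G r} (D : Datum ℓ A) {X : Scheme.{u}} (i : X ⟶ A.C) :
    Nonempty ((Scheme.Modules.pullback (i ≫ A.map)).obj (hypO1 G) ≅ (Scheme.Modules.pullback (i ≫ tp D)).obj ℓ.L) := by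
  obtain ⟨τ, -⟩ := givenBy D
  exact ⟨(Scheme.Modules.pullbackComp i A.map).symm.app (hypO1 G) ≪≫
    (Scheme.Modules.pullback i).mapIso ((Scheme.Modules.pullbackComp A.map
      (LefPen.hypIdeal G).subschemeι).app (O1 n k) ≪≫ τ) ≪≫ (Scheme.Modules.pullbackComp i (tp D)).app ℓ.L⟩

theorem isFibDeg {A : Fam G r} (D : Datum ℓ A) : StMap.IsFibDeg A.f A.map (hypO1 G) (e : ℤ) := by
  intro Ω _ _ t Xt i q hP
  obtain ⟨ι⟩ := nonempty_iso D i
  have h := ℓ.deg Ω _ Xt _ q (hP.paste_horiz (cart D))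
  let _ : Xt.Over (Spec (CommRingCat.of Ω)) := ⟨q⟩
  exact (Groth.Agent.CurvesC.DegIso.deg_congr Ω ι 1).trans h

/-- On a fibre, the map is given by the pulled back sections. -/
theorem givenBy_fibre {A : Fam G r} (D : Datum ℓ A) {X : Scheme.{u}} (i : X ⟶ A.C) :
    ∃ s : Fin (n + 1) → Γ((Scheme.Modules.pullback (i ≫ tp D)).obj ℓ.L, ⊤),
      GivenBy ((i ≫ A.map) ≫ (LefPen.hypIdeal G).subschemeι) _ s := by
  have h := ((givenBy D).comp i).of_iso ((Scheme.Modules.pullbackComp i (tp D)).app ℓ.L)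
  rw [← Category.assoc] at h
  exact ⟨_, h⟩

/-- A family of maps with a datum is a stable family of genus zero and degree `e`. -/
theorem mem_mst (he : 1 ≤ e) {A : Fam G r} (D : Datum ℓ A) :
    StMap.IsStableMapFam A.f A.sect A.sect_f A.map 0 ∧ StMap.IsFibDeg A.f A.map (hypO1 G) (e : ℤ) := by
  obtain ⟨h1, h2, h3, h4⟩ := c.isPre
  refine ⟨⟨MorphismProperty.of_isPullback (P := @Flat) (cart D) h1,
    MorphismProperty.of_isPullback (P := @IsProper) (cart D) h2,
    MorphismProperty.of_isPullback (P := @LocallyOfFinitePresentation) (cart D) h3, ?_⟩, isFibDeg D⟩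
  intro Ω _ _ t Xt i q hP
  have hQ := hP.paste_horiz (cart D)
  have hx : CurvSt.markedPt A.sect A.sect_f hP =
      fun j => CurvSt.markedPt c.B.sect c.B.sect_f hQ (Fin.castAdd m j) :=
    funext fun j => (markedPt_eq (cart D) (sect_tp D j) hP).symm
  obtain ⟨s, hs⟩ := givenBy_fibre D i
  have hcon : ∀ E : Set Xt, E.Nonempty → ((i ≫ A.map).base '' E).Subsingleton →
      ∃ l, E ⊆ (CohB1.genLocus _ (homOf (s l)) : Set Xt) := by
    intro E hne hE
    refine contracted hs hne ?_
    have h6 : ((i ≫ A.map) ≫ (LefPen.hypIdeal G).subschemeι).base '' E =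
        (LefPen.hypIdeal G).subschemeι.base '' ((i ≫ A.map).base '' E) := by
      rw [Set.image_image]
      rfl
    rw [h6]
    exact hE.image _
  refine ⟨?_, fun E hE hE' => ?_, fun hr => ?_⟩
  · rw [hx]
    exact isPrestablePtd_comp (h4 Ω _ Xt _ q hQ) _ (Fin.castAdd_injective r m)
  · rw [hx]
    obtain ⟨l, hl⟩ := hcon E hE.1.1.nonempty hE'
    exact ℓ.stab Ω _ Xt _ q hQ E hE ⟨_, hl⟩
  · exfalso
    have hne : (Set.univ : Set Xt).Nonempty := by
      have : ConnectedSpace Xt := (h4 Ω _ Xt _ q hQ).2.1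
      exact Set.univ_nonempty
    obtain ⟨l, hl⟩ := hcon Set.univ hne (by rw [Set.image_univ]; exact hr)
    have h7 := ℓ.deg Ω _ Xt _ q hQ
    let _ : Xt.Over (Spec (CommRingCat.of Ω)) := ⟨q⟩
    have h8 : Curv2.deg Ω Xt ((Scheme.Modules.pullback (i ≫ tp D)).obj ℓ.L) 1 = 0 := deg_eq_zero hl
    have h9 : (e : ℤ) = 0 := h7.symm.trans h8
    omega

end Main

end K11.UnivStab
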